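import Groth.Agent.H33.KInj.Disk

/-!
# Disk complexes: monomorphisms, trivial cofibrations, and injectivity via lifting
-/

universe w v u

namespace Groth.Agent.H33.KInj

open CategoryTheory Limits MorphismProperty HomologicalComplex Opposite ZeroObject

variable {A : Type u} [Category.{v} A] [Abelian A]

lemma mono_diskMap (k : ℤ) {X Y : A} (f : X ⟶ Y) [Mono f] : Mono (diskMap k f) := by
  have h0 : Mono ((diskMap k f).f k) := by
    rw [diskMap_f_eq]
    infer_instance
  apply (config := { allowSynthFailures := true }) HomologicalComplex.mono_of_mono_f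
  intro j
  by_cases h₀ : j = k
  · subst h₀
    exact h0
  · by_cases h₁ : j = k + 1
    · subst h₁
      have hX := isIso_disk_d k X
      have hY := isIso_disk_d k Y
      have hc := (diskMap k f).comm k (k + 1)
      have : (diskMap k f).f (k + 1) =
          inv ((disk k X).d k (k + 1)) ≫ (diskMap k f).f k ≫ (disk k Y).d k (k + 1) := by
        rw [hc, IsIso.inv_hom_id_assoc]
      rw [this]
      infer_instance
    · exact ⟨fun _ _ _ => (isZero_disk_X k X j h₀ h₁).eq_of_tgt _ _⟩

lemma quasiIso_of_acyclic {K L : CochainComplex A ℤ} (f : K ⟶ L) (hK : K.Acyclic)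
    (hL : L.Acyclic) : QuasiIso f := by
  rw [quasiIso_iff]
  intro i
  rw [quasiIsoAt_iff_exactAt f i (hK i)]
  exact hL i

lemma trivCof_diskMap (k : ℤ) {X Y : A} (f : X ⟶ Y) [Mono f] : trivCof A (diskMap k f) := by
  rw [trivCof_iff]
  exact ⟨mono_diskMap k f, quasiIso_of_acyclic _ (disk_acyclic k X) (disk_acyclic k Y)⟩

/-- If `Z ⟶ 0` has the right lifting property with respect to the maps `disk k S ⟶ disk k G`
for all subobjects `S` of a separator `G`, then `Z.X k` is injective. -/
lemma injective_X_of_rlp [IsGrothendieckAbelian.{w} A] {G : A} (hG : IsSeparator G)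
    (Z : CochainComplex A ℤ) (k : ℤ)
    (hZ : ∀ (S : Subobject G), HasLiftingProperty (diskMap k S.arrow) (0 : Z ⟶ 0)) :
    Injective (Z.X k) := by
  rw [injective_iff_rlp_monomorphisms_zero, ← IsGrothendieckAbelian.generatingMonomorphisms_rlp hG]
  rintro _ _ _ ⟨S⟩
  constructor
  intro t b sq
  have sq' : CommSq ((diskEquiv k _ Z).symm t) (diskMap k S.arrow) (0 : Z ⟶ 0) 0 := ⟨by simp⟩
  have := hZ S
  refine ⟨⟨{ l := diskEquiv k G Z sq'.lift, fac_left := ?_, fac_right := ?_ }⟩⟩
  · rw [← diskEquiv_diskMap_comp, sq'.fac_left, Equiv.apply_symm_apply]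
  · exact (isZero_zero A).eq_of_tgt _ _

end Groth.Agent.H33.KInj
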