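import Groth.Agent.H33.KInj.Lift
import Groth.Agent.H33.KInj.DiskLift

/-!
# The inclusion into the cone of the identity, and K-injectivity via lifting
-/

universe w v u

namespace Groth.Agent.H33.KInj

open CategoryTheory Limits MorphismProperty HomologicalComplex CochainComplex HomComplex ZeroObject

variable {A : Type u} [Category.{v} A] [Abelian A]

lemma mono_inr {X Y : CochainComplex A ℤ} (φ : X ⟶ Y) : Mono (mappingCone.inr φ) := by
  apply (config := { allowSynthFailures := true }) HomologicalComplex.mono_of_mono_f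
  intro n
  have : Mono ((mappingCone.inr φ).f n ≫ (mappingCone.snd φ).v n n (add_zero n)) := by
    rw [mappingCone.inr_f_snd_v]
    infer_instance
  exact mono_of_mono _ ((mappingCone.snd φ).v n n (add_zero n))

lemma acyclic_cone_id (X : CochainComplex A ℤ) : (mappingCone (𝟙 X)).Acyclic := by
  intro n
  rw [exactAt_iff_isZero_homology, IsZero.iff_id_eq_zero, ← HomologicalComplex.homologyMap_id,
    (mappingCone.homotopyToZeroOfId X).homologyMap_eq n, HomologicalComplex.homologyMap_zero]

lemma trivCof_inr_id (M : CochainComplex A ℤ) (hM : M.Acyclic) :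
    trivCof A (mappingCone.inr (𝟙 M)) := by
  rw [trivCof_iff]
  exact ⟨mono_inr _, quasiIso_of_acyclic _ hM (acyclic_cone_id M)⟩

/-- If `Z ⟶ 0` has the right lifting property with respect to all trivial cofibrations, then
`Z` is K-injective. -/
theorem isKInjective_of_rlp (Z : CochainComplex A ℤ)
    (h : ∀ {X Y : CochainComplex A ℤ} (j : X ⟶ Y), trivCof A j →
      HasLiftingProperty j (0 : Z ⟶ 0)) : Z.IsKInjective where
  nonempty_homotopy_zero {M} f hM := by
    have := h _ (trivCof_inr_id M hM)
    have sq : CommSq f (mappingCone.inr (𝟙 M)) (0 : Z ⟶ 0) 0 := ⟨by simp⟩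
    have H := ((inrHomotopy (𝟙 M)).compRight sq.lift).trans (Homotopy.ofEq zero_comp)
    have e : (𝟙 M ≫ mappingCone.inr (𝟙 M)) ≫ sq.lift = f := by
      rw [Category.id_comp, sq.fac_left]
    exact ⟨(Homotopy.ofEq e.symm).trans H⟩

end Groth.Agent.H33.KInj
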