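import Groth.Agent.H33.KInj.Step
import Groth.Agent.H33.KInj.Transfinite
import Mathlib.CategoryTheory.SmallObject.TransfiniteCompositionLifting

/-!
# Every trivial cofibration is a transfinite composition of small steps
-/

universe v u

set_option linter.unusedSectionVars false

namespace Groth.Agent.H33.KInj

open CategoryTheory Limits HomologicalComplex MorphismProperty

variable {A : Type u} [Category.{v} A] [Abelian A] [IsGrothendieckAbelian.{v} A]

section

variable {C : Type*} [Category C]

lemma ofLE_congr_prop (P : MorphismProperty C) {Y : C} {S S₁ S₂ : Subobject Y} (e : S₁ = S₂)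
    (h₁ : S ≤ S₁) (h₂ : S ≤ S₂) (hP : P (Subobject.ofLE S S₂ h₂)) :
    P (Subobject.ofLE S S₁ h₁) := by
  subst e
  exact hP

lemma isIso_ofLE_of_eq {Y : C} {S S₁ : Subobject Y} (e : S = S₁) (h : S ≤ S₁) :
    IsIso (Subobject.ofLE S S₁ h) := by
  subst e
  rw [Subobject.ofLE_refl]
  infer_instance

end

attribute [local instance] IsFiltered.isConnected

/-- The supremum of a filtered family of subobjects whose inclusions are quasi-isomorphisms
has the same property. -/
lemma quasiIso_iSup_arrow {Y : CochainComplex A ℤ} {J : Type v} [SmallCategory J] [IsFiltered J]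
    (F : J ⥤ MonoOver Y) (hF : ∀ j, QuasiIso (F.obj j).obj.hom) :
    QuasiIso (⨆ j, Subobject.mk (F.obj j).obj.hom).arrow := by
  let D := F ⋙ MonoOver.forget _ ⋙ Over.forget _
  let c : Cocone D := colimit.cocone D
  have hc : IsColimit c := colimit.isColimit D
  let α : D ⟶ (Functor.const _).obj Y :=
    { app j := (F.obj j).obj.hom
      naturality j j' g := by simp [D, MonoOver.forget] }
  let f : c.pt ⟶ Y := hc.desc (Cocone.mk Y α)
  have hf : ∀ j, c.ι.app j ≫ f = (F.obj j).obj.hom := fun j => hc.fac _ j
  have hm := IsGrothendieckAbelian.mono_of_isColimit_monoOver F hc f hf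
  have he := IsGrothendieckAbelian.subobjectMk_of_isColimit_eq_iSup F hc f hf
  have hst : (trivCof A).IsStableUnderColimitsOfShape J := trivCof_isStableUnderColimitsOfShape J
  have hα : (trivCof A).functorCategory J α := fun j => by
    rw [trivCof_iff]
    exact ⟨inferInstanceAs (Mono (F.obj j).obj.hom), hF j⟩
  have hft : trivCof A f :=
    hst.condition D _ c _ hc (isColimitConstCocone J Y) α hα f
      (fun j => (hf j).trans (Category.comp_id _).symm)
  rw [← he, ← Subobject.underlyingIso_hom_comp_eq_mk]
  have := ((trivCof_iff _).1 hft).2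
  infer_instance

variable {G : A} (hG : IsSeparator G) {Y : CochainComplex A ℤ}

open Classical in
/-- A strictly larger subobject (when possible) obtained by adding a small acyclic step. -/
noncomputable def larger (S : Subobject Y) : Subobject Y :=
  if h : S ≠ ⊤ ∧ QuasiIso S.arrow then (exists_larger_subobject hG S h.1 h.2).choose else ⊤

lemma larger_top : larger hG (⊤ : Subobject Y) = ⊤ := dif_neg (by simp)

lemma larger_eq (S : Subobject Y) (hS : S ≠ ⊤) (hq : QuasiIso S.arrow) :
    larger hG S = (exists_larger_subobject hG S hS hq).choose := dif_pos ⟨hS, hq⟩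

lemma lt_larger (S : Subobject Y) (hS : S ≠ ⊤) : S < larger hG S := by
  by_cases hq : QuasiIso S.arrow
  · rw [larger_eq hG S hS hq]
    exact (exists_larger_subobject hG S hS hq).choose_spec.choose
  · have : larger hG S = ⊤ := dif_neg (by tauto)
    rw [this]
    exact lt_top_iff_ne_top.2 hS

lemma le_larger (S : Subobject Y) : S ≤ larger hG S := by
  by_cases hS : S = ⊤
  · subst hS
    rw [larger_top]
  · exact (lt_larger hG S hS).le

lemma quasiIso_larger (S : Subobject Y) (hq : QuasiIso S.arrow) :
    QuasiIso (larger hG S).arrow := by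
  by_cases hS : S = ⊤
  · subst hS
    rw [larger_top]
    exact hq
  · rw [larger_eq hG S hS hq]
    exact (exists_larger_subobject hG S hS hq).choose_spec.choose_spec.1

lemma stepProp_larger (S : Subobject Y) (hq : QuasiIso S.arrow) :
    stepProp G (Subobject.ofLE S (larger hG S) (le_larger hG S)) := by
  by_cases hS : S = ⊤
  · left
    apply isIso_ofLE_of_eq
    rw [hS, larger_top]
  · exact ofLE_congr_prop _ (larger_eq hG S hS hq) _
      (exists_larger_subobject hG S hS hq).choose_spec.choose.le
      (exists_larger_subobject hG S hS hq).choose_spec.choose_spec.2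

lemma quasiIso_iterate {J : Type v} [LinearOrder J] [OrderBot J] [SuccOrder J] [WellFoundedLT J]
    (A₀ : Subobject Y) (h₀ : QuasiIso A₀.arrow) (j : J) :
    QuasiIso (transfiniteIterate (larger hG) j A₀).arrow := by
  induction j using SuccOrder.limitRecOn with
  | isMin j hj =>
    obtain rfl := hj.eq_bot
    rw [transfiniteIterate_bot]
    exact h₀
  | succ j hj ih =>
    rw [transfiniteIterate_succ _ _ _ hj]
    exact quasiIso_larger hG _ ih
  | isSuccLimit j hj ih =>
    rw [transfiniteIterate_limit _ _ _ hj]
    have := hj.nonempty_Iio.to_subtype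
    let F : Set.Iio j ⥤ MonoOver Y :=
      (Set.principalSegIio j).monotone.functor ⋙
        TransfiniteSub.functorToMonoOver (larger hG) (le_larger hG) A₀ J
    have hF : ∀ x, QuasiIso (F.obj x).obj.hom := fun x => ih x.1 x.2
    have := quasiIso_iSup_arrow F hF
    have e : (⨆ x : Set.Iio j, Subobject.mk (F.obj x).obj.hom) =
        ⨆ x : Set.Iio j, transfiniteIterate (larger hG) x.1 A₀ := by
      congr
      funext x
      exact Subobject.mk_arrow _
    rw [← e]
    exact this

include hG in
/-- Every trivial cofibration is a transfinite composition of small steps. -/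
theorem exists_transfiniteComposition {X : CochainComplex A ℤ} (f : X ⟶ Y)
    (hf : trivCof A f) :
    ∃ (J : Type v) (_ : LinearOrder J) (_ : OrderBot J) (_ : SuccOrder J)
      (_ : WellFoundedLT J),
      Nonempty ((stepProp G).TransfiniteCompositionOfShape J f) := by
  rw [trivCof_iff] at hf
  obtain ⟨hm, hq⟩ := hf
  obtain ⟨o, j, hj⟩ := TransfiniteSub.exists_ordinal (larger hG) (lt_larger hG)
    (larger_top hG) (Subobject.mk f)
  have : Nonempty o.ToType := ⟨j⟩
  have : OrderBot o.ToType := WellFoundedLT.toOrderBot _
  have h₀ : QuasiIso (Subobject.mk f).arrow := by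
    rw [← Subobject.underlyingIso_hom_comp_eq_mk]
    infer_instance
  exact ⟨_, _, _, _, _, ⟨TransfiniteSub.transfiniteCompositionOfShapeOfEqTop (larger hG)
    (le_larger hG) (stepProp G) hj
    (fun k _ => stepProp_larger hG _ (quasiIso_iterate hG _ h₀ k))⟩⟩

include hG in
/-- A morphism with the right lifting property with respect to the small steps has the right
lifting property with respect to all trivial cofibrations. -/
theorem rlp_stepProp_le : (stepProp G).rlp ≤ (trivCof A).rlp := by
  intro Z W p hp X Y f hf
  obtain ⟨J, _, _, _, _, ⟨h⟩⟩ := exists_transfiniteComposition hG f hf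
  exact transfiniteCompositionsOfShape_le_llp_rlp _ _ _ h.mem _ hp

end Groth.Agent.H33.KInj
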