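import Groth.Agent.H33.KInj.SOA
import Groth.Agent.H33.KInj.ConeId
import Groth.Agent.H33.KInj.Deconstruct

/-!
# K-injective resolutions in Grothendieck abelian categories
-/

universe v u

set_option linter.unusedSectionVars false

namespace Groth.Agent.H33.KInj

open CategoryTheory Limits HomologicalComplex MorphismProperty ZeroObject

variable {A : Type u} [Category.{v} A] [Abelian A] [IsGrothendieckAbelian.{v} A]

lemma acyclic_shift (K : CochainComplex A ℤ) (hK : K.Acyclic) (m : ℤ) : (K⟦m⟧).Acyclic := by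
  intro n
  rw [exactAt_iff_isZero_homology]
  exact IsZero.of_iso ((hK (m + n)).isZero_homology)
    (((HomologicalComplex.homologyFunctor A _ 0).shiftIso m n (m + n) rfl).app K)

variable (G : A)

/-- The index type of the generating trivial cofibrations. -/
def GenIdx : Type v :=
  (ℤ × Shrink.{v} (Subobject G)) ⊕ ({i : KIdx G // (KObj i).Acyclic} × ℤ)

variable {G}

/-- Source of the generating trivial cofibrations. -/
noncomputable def genSrc : GenIdx G → CochainComplex A ℤ
  | Sum.inl p => disk p.1 (((equivShrink (Subobject G)).symm p.2 : Subobject G) : A)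
  | Sum.inr p => (KObj p.1.1)⟦p.2⟧

/-- Target of the generating trivial cofibrations. -/
noncomputable def genTgt : GenIdx G → CochainComplex A ℤ
  | Sum.inl p => disk p.1 G
  | Sum.inr p => CochainComplex.mappingCone (𝟙 ((KObj p.1.1)⟦p.2⟧))

/-- The generating trivial cofibrations. -/
noncomputable def genMap : ∀ i : GenIdx G, genSrc i ⟶ genTgt i
  | Sum.inl p => diskMap p.1 ((equivShrink (Subobject G)).symm p.2).arrow
  | Sum.inr p => CochainComplex.mappingCone.inr (𝟙 ((KObj p.1.1)⟦p.2⟧))

lemma trivCof_genMap (i : GenIdx G) : trivCof A (genMap i) := by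
  rcases i with p | p
  · exact trivCof_diskMap _ _
  · exact trivCof_inr_id _ (acyclic_shift _ p.1.2 _)

instance (i : GenIdx G) : Mono (genMap i) := ((trivCof_iff _).1 (trivCof_genMap i)).1

lemma hasLiftingProperty_diskMap_of_eq {Z W : CochainComplex A ℤ} (p : Z ⟶ W) (k : ℤ)
    {S S' : Subobject G} (h : S' = S) (hp : HasLiftingProperty (diskMap k S'.arrow) p) :
    HasLiftingProperty (diskMap k S.arrow) p := by
  subst h
  exact hp

lemma rlp_genMap_inl {Z : CochainComplex A ℤ}
    (hp : (ofHoms (genMap (G := G))).rlp (0 : Z ⟶ 0)) (n : ℤ) (S : Subobject G) :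
    HasLiftingProperty (diskMap n S.arrow) (0 : Z ⟶ 0) := by
  have h := hp _ (ofHoms.mk (f := genMap (G := G)) (Sum.inl (n, equivShrink _ S)))
  exact hasLiftingProperty_diskMap_of_eq _ n (Equiv.symm_apply_apply _ S) h

lemma rlp_genMap_inr {Z : CochainComplex A ℤ}
    (hp : (ofHoms (genMap (G := G))).rlp (0 : Z ⟶ 0)) (i : KIdx G) (hi : (KObj i).Acyclic)
    (m : ℤ) :
    HasLiftingProperty (CochainComplex.mappingCone.inr (𝟙 ((KObj i)⟦m⟧))) (0 : Z ⟶ 0) :=
  hp _ (ofHoms.mk (f := genMap (G := G)) (Sum.inr (⟨i, hi⟩, m)))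

/-- **K-injective resolutions exist in Grothendieck abelian categories.** -/
theorem exists_kInjective_resolution (M : CochainComplex A ℤ) :
    ∃ (I : CochainComplex A ℤ) (f : M ⟶ I), I.IsKInjective ∧ QuasiIso f ∧
      (∀ n, Mono (f.f n)) ∧ ∀ n, Injective (I.X n) := by
  let G := separator A
  have hG : IsSeparator G := isSeparator_separator A
  let I₀ : MorphismProperty (CochainComplex A ℤ) := ofHoms (genMap (G := G))
  have hSOA : HasSmallObjectArgument.{v} I₀ := hasSmallObjectArgument_ofHoms _
  have hI₀ : I₀ ≤ trivCof A := by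
    rintro _ _ _ ⟨i⟩
    exact trivCof_genMap i
  obtain ⟨Z, j, p, -, hj, hp⟩ := MorphismProperty.factorizationData I₀.rlp.llp I₀.rlp (0 : M ⟶ 0)
  have hi : trivCof A j := llp_rlp_le_trivCof I₀ hI₀ _ hj
  rw [trivCof_iff] at hi
  obtain ⟨hi₁, hi₂⟩ := hi
  obtain rfl : p = 0 := (isZero_zero _).eq_of_tgt _ _
  -- injectivity of the terms
  have hinj : ∀ n, Injective (Z.X n) := fun n =>
    injective_X_of_rlp hG Z n (fun S => rlp_genMap_inl hp n S)
  -- vanishing of maps from the test complexes
  have hv : ∀ (i : KIdx G), (KObj i).Acyclic → HomVanish (KObj i) Z := fun i hi =>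
    homVanish_of_rlp (KObj i) Z (fun m => rlp_genMap_inr hp i hi m)
  -- lifting against small steps
  have hstep : (stepProp G).rlp (0 : Z ⟶ 0) := by
    intro X Y j hj
    obtain hj | ⟨hj, i, hi, ⟨ei⟩⟩ := hj
    · exact HasLiftingProperty.of_left_iso j 0
    · exact hasLiftingProperty_of_homVanish j (cokernel.π j) (cokernel.condition j)
        (cokernelIsCokernel j) ((hv i hi).of_iso ei.symm)
  have htriv : (trivCof A).rlp (0 : Z ⟶ 0) := rlp_stepProp_le hG _ hstep
  exact ⟨Z, j, isKInjective_of_rlp _ (fun j hj => htriv _ hj), hi₂,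
    fun n => inferInstance, hinj⟩

end Groth.Agent.H33.KInj
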