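import Groth.Agent.H33.KInj.TrivCof
import Mathlib.Algebra.Homology.Double
import Mathlib.CategoryTheory.Abelian.GrothendieckCategory.EnoughInjectives

/-!
# Disk complexes
-/

universe w v u

namespace Groth.Agent.H33.KInj

open CategoryTheory Limits MorphismProperty HomologicalComplex Opposite

variable {A : Type u} [Category.{v} A] [Abelian A]

/-- The disk complex: `X` in degrees `k` and `k + 1`, with the identity as differential. -/
noncomputable abbrev disk (k : ℤ) (X : A) : CochainComplex A ℤ :=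
  double (𝟙 X) (show (ComplexShape.up ℤ).Rel k (k + 1) from rfl)

/-- Morphisms from the disk complex correspond to morphisms to the degree `k` part. -/
noncomputable def diskEquiv (k : ℤ) (X : A) (K : CochainComplex A ℤ) :
    (disk k X ⟶ K) ≃ (X ⟶ K.X k) :=
  (evalCompCoyonedaCorepresentableByDoubleId
    (show (ComplexShape.up ℤ).Rel k (k + 1) from rfl) (by simp) X).homEquiv

lemma diskEquiv_comp {k : ℤ} {X : A} {K L : CochainComplex A ℤ} (g : disk k X ⟶ K) (φ : K ⟶ L) :
    diskEquiv k X L (g ≫ φ) = diskEquiv k X K g ≫ φ.f k :=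
  (evalCompCoyonedaCorepresentableByDoubleId
    (show (ComplexShape.up ℤ).Rel k (k + 1) from rfl) (by simp) X).homEquiv_comp φ g

lemma diskEquiv_symm_comp {k : ℤ} {X : A} {K L : CochainComplex A ℤ} (g : X ⟶ K.X k) (φ : K ⟶ L) :
    (diskEquiv k X K).symm g ≫ φ = (diskEquiv k X L).symm (g ≫ φ.f k) := by
  apply (diskEquiv k X L).injective
  rw [diskEquiv_comp]
  simp

/-- Functoriality of the disk complex. -/
noncomputable def diskMap (k : ℤ) {X Y : A} (f : X ⟶ Y) : disk k X ⟶ disk k Y :=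
  (diskEquiv k X _).symm (f ≫ diskEquiv k Y _ (𝟙 _))

lemma diskEquiv_diskMap_comp {k : ℤ} {X Y : A} (f : X ⟶ Y) {K : CochainComplex A ℤ}
    (g : disk k Y ⟶ K) : diskEquiv k X K (diskMap k f ≫ g) = f ≫ diskEquiv k Y K g := by
  rw [diskEquiv_comp, diskMap, Equiv.apply_symm_apply, Category.assoc, ← diskEquiv_comp,
    Category.id_comp]

lemma isZero_disk_X (k : ℤ) (X : A) (j : ℤ) (h₀ : j ≠ k) (h₁ : j ≠ k + 1) :
    IsZero ((disk k X).X j) :=
  isZero_double_X _ _ j h₀ h₁

lemma isIso_disk_d (k : ℤ) (X : A) : IsIso ((disk k X).d k (k + 1)) := by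
  have : (disk k X).d k (k + 1) = _ := double_d (𝟙 X)
    (show (ComplexShape.up ℤ).Rel k (k + 1) from rfl) (by simp)
  rw [this, Category.id_comp]
  infer_instance

lemma disk_acyclic (k : ℤ) (X : A) : (disk k X).Acyclic := by
  intro j
  by_cases h₀ : j = k
  · subst h₀
    rw [(disk j X).exactAt_iff' (j - 1) j (j + 1) (by simp) (by simp)]
    have := isIso_disk_d j X
    have hz : (disk j X).d (j - 1) j = 0 := double_d_eq_zero₀ _ _ _ _ (by simp)
    rw [ShortComplex.exact_iff_mono _ hz]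
    exact inferInstanceAs (Mono ((disk j X).d j (j + 1)))
  · by_cases h₁ : j = k + 1
    · subst h₁
      rw [(disk k X).exactAt_iff' k (k + 1) (k + 1 + 1) (by simp) (by simp)]
      have := isIso_disk_d k X
      have hz : (disk k X).d (k + 1) (k + 1 + 1) = 0 := double_d_eq_zero₀ _ _ _ _ (by simp)
      rw [ShortComplex.exact_iff_epi _ hz]
      exact inferInstanceAs (Epi ((disk k X).d k (k + 1)))
    · exact ShortComplex.exact_of_isZero_X₂ _ (isZero_disk_X k X j h₀ h₁)

lemma diskMap_f_eq (k : ℤ) {X Y : A} (f : X ⟶ Y) :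
    (diskMap k f).f k = (doubleXIso₀ _ _).hom ≫ f ≫ (doubleXIso₀ _ _).inv := by
  have h := diskEquiv_diskMap_comp (k := k) f (𝟙 _)
  rw [Category.comp_id] at h
  have h1 : ∀ {X' : A} {K : CochainComplex A ℤ} (g : disk k X' ⟶ K),
      diskEquiv k X' K g = (doubleXIso₀ _ _).inv ≫ g.f k := fun g => rfl
  rw [h1, h1] at h
  rw [← cancel_epi (doubleXIso₀ (𝟙 X) (show (ComplexShape.up ℤ).Rel k (k + 1) from rfl)).inv, h]
  simp

end Groth.Agent.H33.KInj
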