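import Groth.Agent.H33.KInj.SmallSubCx
import Groth.Agent.H33.KInj.DiskLift
import Mathlib.CategoryTheory.Limits.EssentiallySmall

/-!
# A set of small acyclic complexes detecting all acyclic complexes
-/

universe v u

set_option linter.unusedSectionVars false

namespace Groth.Agent.H33.KInj

open CategoryTheory Limits HomologicalComplex

variable {A : Type u} [Category.{v} A] [Abelian A] [IsGrothendieckAbelian.{v} A]

instance : HasCoproductsOfShape ℤ (CochainComplex A ℤ) :=
  hasCoproductsOfShape_of_small.{v} _ ℤ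

/-- A complex mapping onto all complexes whose terms are small of rank profile `r`. -/
noncomputable def bigCx (G : A) (r : ℤ → ℕ) : CochainComplex A ℤ :=
  ∐ fun k : ℤ => disk k (∐ fun _ : rankT G (r k) => G)

lemma exists_epi_bigCx {G : A} (r : ℤ → ℕ) (N : CochainComplex A ℤ)
    (hN : ∀ k, IsGen G (rankT G (r k)) (N.X k)) : ∃ p : bigCx G r ⟶ N, Epi p := by
  choose e he using hN
  refine ⟨Sigma.desc (fun k => (diskEquiv k _ N).symm (e k)), ?_⟩
  apply (config := { allowSynthFailures := true }) HomologicalComplex.epi_of_epi_f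
  intro k
  have h1 : (Sigma.ι (fun k : ℤ => disk k (∐ fun _ : rankT G (r k) => G)) k ≫
      Sigma.desc (fun k => (diskEquiv k _ N).symm (e k))).f k =
      ((diskEquiv k _ N).symm (e k)).f k := by rw [Sigma.ι_desc]
  have h2 : (doubleXIso₀ _ _).inv ≫ ((diskEquiv k _ N).symm (e k)).f k = e k :=
    (diskEquiv k _ N).apply_symm_apply (e k)
  have h3 : Epi (((diskEquiv k _ N).symm (e k)).f k) := by
    have : Epi ((doubleXIso₀ (𝟙 (∐ fun _ : rankT G (r k) => G))
        (show (ComplexShape.up ℤ).Rel k (k + 1) from rfl)).inv ≫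
        ((diskEquiv k _ N).symm (e k)).f k) := by
      rw [h2]; exact he k
    exact epi_of_epi (doubleXIso₀ (𝟙 (∐ fun _ : rankT G (r k) => G))
        (show (ComplexShape.up ℤ).Rel k (k + 1) from rfl)).inv _
  rw [← h1, HomologicalComplex.comp_f] at h3
  exact epi_of_epi ((Sigma.ι (fun k : ℤ => disk k (∐ fun _ : rankT G (r k) => G)) k).f k) _

/-- The index type of the family of test complexes. -/
def KIdx (G : A) : Type v := Σ (r : ℤ → ℕ), Shrink.{v} (Subobject (bigCx G r))

/-- The family of test complexes: all quotients of the complexes `bigCx G r`. -/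
noncomputable def KObj {G : A} (i : KIdx G) : CochainComplex A ℤ :=
  cokernel ((equivShrink (Subobject (bigCx G i.1))).symm i.2).arrow

lemma KObj_iso_of_eq {G : A} (r : ℤ → ℕ) (s : Shrink.{v} (Subobject (bigCx G r)))
    (S : Subobject (bigCx G r)) (h : (equivShrink _).symm s = S) :
    Nonempty (KObj ⟨r, s⟩ ≅ cokernel S.arrow) := by
  subst h
  exact ⟨Iso.refl _⟩

lemma exists_iso_KObj {G : A} (r : ℤ → ℕ) (N : CochainComplex A ℤ) (p : bigCx G r ⟶ N)
    [Epi p] : ∃ i : KIdx G, Nonempty (KObj i ≅ N) := by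
  refine ⟨⟨r, equivShrink _ (kernelSubobject p)⟩, ?_⟩
  have hl : IsLimit (KernelFork.ofι (kernelSubobject p).arrow (kernelSubobject_arrow_comp p)) :=
    IsLimit.ofIsoLimit (kernelIsKernel p)
      (Fork.ext (kernelSubobjectIso p).symm (by simp))
  have hc := Abelian.epiIsCokernelOfKernel _ hl
  obtain ⟨e⟩ := KObj_iso_of_eq r (equivShrink _ (kernelSubobject p)) (kernelSubobject p)
    (Equiv.symm_apply_apply _ _)
  exact ⟨e ≪≫ IsColimit.coconePointUniqueUpToIso (cokernelIsCokernel _) hc⟩

lemma acyclic_of_iso {K L : CochainComplex A ℤ} (e : K ≅ L) (h : K.Acyclic) : L.Acyclic := by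
  intro k
  rw [exactAt_iff_isZero_homology]
  exact IsZero.of_iso ((h k).isZero_homology)
    ((HomologicalComplex.homologyFunctor A _ k).mapIso e.symm)

lemma isZero_of_forall_isZero_X (M : CochainComplex A ℤ) (h : ∀ n, IsZero (M.X n)) :
    IsZero M := by
  rw [IsZero.iff_id_eq_zero]
  ext n
  exact (h n).eq_of_src _ _

lemma exists_ne_zero_of_not_isZero {G : A} (hG : IsSeparator G) (X : A) (hX : ¬ IsZero X) :
    ∃ g : G ⟶ X, g ≠ 0 := by
  by_contra hc
  push Not at hc
  apply hX
  rw [IsZero.iff_id_eq_zero]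
  apply hG.def
  intro h
  rw [hc (h ≫ 𝟙 X), hc (h ≫ 0)]

/-- **Key lemma**: every nonzero acyclic complex contains a nonzero acyclic subcomplex isomorphic
to a member of the family `KObj`. -/
theorem exists_small_acyclic_sub {G : A} (hG : IsSeparator G) (M : CochainComplex A ℤ)
    (hM : M.Acyclic) (hM0 : ¬ IsZero M) :
    ∃ (i : KIdx G) (f : KObj i ⟶ M), Mono f ∧ (KObj i).Acyclic ∧ ¬ IsZero (KObj i) := by
  obtain ⟨n, hn⟩ : ∃ n, ¬ IsZero (M.X n) := by
    by_contra hc
    push Not at hc
    exact hM0 (isZero_of_forall_isZero_X M hc)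
  obtain ⟨g, hg⟩ := exists_ne_zero_of_not_isZero hG _ hn
  let F := smallFam hG hM n g
  have hs := smallFam_small hG hM n g
  choose r hr using hs
  obtain ⟨p, hp⟩ := exists_epi_bigCx r F.cx hr
  obtain ⟨i, ⟨e⟩⟩ := exists_iso_KObj r F.cx p
  refine ⟨i, e.hom ≫ F.ι, mono_comp _ _, ?_, ?_⟩
  · exact acyclic_of_iso e.symm (smallFam_acyclic hG hM n g)
  · intro h
    exact smallFam_not_isZero hG hM n g hg (h.of_iso e.symm)

end Groth.Agent.H33.KInj
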