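import Mathlib.CategoryTheory.Abelian.GrothendieckCategory.EnoughInjectives
import Mathlib.CategoryTheory.Abelian.Refinements

/-!
# Objects generated by a bounded number of copies of a separator
-/

universe v u

set_option linter.unusedSectionVars false

namespace Groth.Agent.H33.KInj

open CategoryTheory Limits

variable {A : Type u} [Category.{v} A] [Abelian A] [HasCoproducts.{v} A]

/-- `X` is a quotient of the coproduct of copies of `G` indexed by `T`. -/
def IsGen (G : A) (T : Type v) (X : A) : Prop :=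
  ∃ e : (∐ fun _ : T => G) ⟶ X, Epi e

variable {G : A}

lemma IsGen.of_epi {T : Type v} {X Y : A} (h : IsGen G T X) (p : X ⟶ Y) [Epi p] :
    IsGen G T Y := by
  obtain ⟨e, he⟩ := h
  exact ⟨e ≫ p, epi_comp _ _⟩

lemma IsGen.of_iso {T : Type v} {X Y : A} (h : IsGen G T X) (e : X ≅ Y) : IsGen G T Y :=
  h.of_epi e.hom

lemma isGen_of_epi_from (T : Type v) [Inhabited T] {X : A} (p : G ⟶ X) [Epi p] :
    IsGen G T X := by
  refine ⟨Sigma.desc (fun _ => p), ?_⟩
  have : Sigma.ι (fun _ : T => G) default ≫ Sigma.desc (fun _ => p) = p := by simp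
  exact epi_of_epi_fac this

lemma isGen_of_isZero (T : Type v) {X : A} (hX : IsZero X) : IsGen G T X :=
  ⟨0, ⟨fun _ _ _ => hX.eq_of_src _ _⟩⟩

/-- A subobject of an object generated by `T` is generated by `G ⟶ ∐_T G`. -/
lemma IsGen.of_mono (hG : IsSeparator G) {T : Type v} {S Q : A} (h : IsGen G T S) (q : Q ⟶ S)
    [Mono q] : IsGen G (G ⟶ ∐ fun _ : T => G) Q := by
  classical
  obtain ⟨e, he⟩ := h
  let a : (G ⟶ ∐ fun _ : T => G) → (G ⟶ Q) := fun φ =>
    if h : ∃ a : G ⟶ Q, a ≫ q = φ ≫ e then h.choose else 0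
  have ha : ∀ (φ : G ⟶ ∐ fun _ : T => G) (b : G ⟶ Q), b ≫ q = φ ≫ e → a φ = b := by
    intro φ b hb
    have h : ∃ a : G ⟶ Q, a ≫ q = φ ≫ e := ⟨b, hb⟩
    have : a φ = h.choose := dif_pos h
    rw [this, ← cancel_mono q, h.choose_spec, hb]
  refine ⟨Sigma.desc a, ?_⟩
  rw [Preadditive.epi_iff_cancel_zero]
  intro C c hc
  have hp : Epi (pullback.fst q e) := inferInstance
  rw [← cancel_epi (pullback.fst q e), comp_zero]
  apply hG.def
  intro σ
  rw [comp_zero]
  have h1 : a (σ ≫ pullback.snd q e) = σ ≫ pullback.fst q e :=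
    ha _ _ (by rw [Category.assoc, Category.assoc, pullback.condition])
  have h2 : a (σ ≫ pullback.snd q e) ≫ c = 0 := by
    have := Sigma.ι (fun _ : (G ⟶ ∐ fun _ : T => G) => G) (σ ≫ pullback.snd q e) ≫= hc
    simpa using this
  rw [← Category.assoc, ← h1, h2]

/-- Given an epimorphism `π : R ⟶ Q` with `Q` generated by `T'`, there is a map `f : R' ⟶ R`
from an object generated by `T' × (G ⟶ G)` such that `f ≫ π` is an epimorphism. -/
lemma IsGen.exists_lift (hG : IsSeparator G) {T' : Type v} {R Q : A} (h : IsGen G T' Q)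
    (π : R ⟶ Q) [Epi π] :
    ∃ (R' : A) (f : R' ⟶ R), IsGen G (T' × (G ⟶ G)) R' ∧ Epi (f ≫ π) := by
  classical
  obtain ⟨e, he⟩ := h
  let et : T' → (G ⟶ Q) := fun t => Sigma.ι (fun _ : T' => G) t ≫ e
  let ρ : T' × (G ⟶ G) → (G ⟶ R) := fun p =>
    if h : ∃ r : G ⟶ R, r ≫ π = p.2 ≫ et p.1 then h.choose else 0
  have hρ : ∀ (t : T') (ψ : G ⟶ G), (∃ r : G ⟶ R, r ≫ π = ψ ≫ et t) →
      ρ (t, ψ) ≫ π = ψ ≫ et t := by
    intro t ψ h
    have : ρ (t, ψ) = h.choose := dif_pos h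
    rw [this, h.choose_spec]
  refine ⟨∐ fun _ : T' × (G ⟶ G) => G, Sigma.desc ρ, ⟨𝟙 _, inferInstance⟩, ?_⟩
  rw [Preadditive.epi_iff_cancel_zero]
  intro C c hc
  rw [← cancel_epi e, comp_zero]
  apply Sigma.hom_ext
  intro t
  rw [comp_zero, ← Category.assoc]
  show et t ≫ c = 0
  have hp : Epi (pullback.snd π (et t)) := inferInstance
  rw [← cancel_epi (pullback.snd π (et t)), comp_zero]
  apply hG.def
  intro σ
  rw [comp_zero]
  have h1 := hρ t (σ ≫ pullback.snd π (et t))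
    ⟨σ ≫ pullback.fst π (et t), by rw [Category.assoc, Category.assoc, pullback.condition]⟩
  have h2 : ρ (t, σ ≫ pullback.snd π (et t)) ≫ π ≫ c = 0 := by
    have := Sigma.ι (fun _ : T' × (G ⟶ G) => G) (t, σ ≫ pullback.snd π (et t)) ≫= hc
    simpa using this
  rw [← Category.assoc] at h2
  have h3 : ((σ ≫ pullback.snd π (et t)) ≫ et t) ≫ c = 0 := by rw [← h1, h2]
  simpa only [Category.assoc] using h3

end Groth.Agent.H33.KInj
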