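import Groth.Agent.H33.KInj.TrivCof
import Mathlib.Algebra.Homology.ModelCategory.Lifting
import Mathlib.Algebra.Homology.HomotopyCategory.KInjective
import Mathlib.Algebra.Homology.HomotopyCategory.Shift

/-!
# Lifting against complexes with injective terms
-/

universe w v u

namespace Groth.Agent.H33.KInj

open CategoryTheory Limits MorphismProperty HomologicalComplex CochainComplex HomComplex ZeroObject

variable {A : Type u} [Category.{v} A] [Abelian A]

/-- All chain maps from shifts of `K` to `Z` are null-homotopic. -/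
def HomVanish (K Z : CochainComplex A ℤ) : Prop :=
  ∀ (m : ℤ) (ψ : K⟦m⟧ ⟶ Z), Nonempty (Homotopy ψ 0)

lemma HomVanish.of_iso {K K' Z : CochainComplex A ℤ} (e : K ≅ K') (h : HomVanish K Z) :
    HomVanish K' Z := by
  intro m ψ
  obtain ⟨H⟩ := h m (e.hom⟦m⟧' ≫ ψ)
  have H' := (H.compLeft (e.inv⟦m⟧')).trans (Homotopy.ofEq comp_zero)
  have e1 : e.inv⟦m⟧' ≫ e.hom⟦m⟧' ≫ ψ = ψ := by
    rw [← Category.assoc, ← Functor.map_comp, e.inv_hom_id, CategoryTheory.Functor.map_id,
      Category.id_comp]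
  exact ⟨(Homotopy.ofEq e1.symm).trans H'⟩

lemma HomVanish.homotopy_zero {K Z : CochainComplex A ℤ} (h : HomVanish K Z) (n : ℤ)
    (φ : K ⟶ Z⟦n⟧) : Nonempty (Homotopy φ 0) := by
  let Q := HomotopyCategory.quotient A (ComplexShape.up ℤ)
  let e := (shiftFunctorCompIsoId (CochainComplex A ℤ) n (-n) (by simp)).app Z
  obtain ⟨H⟩ := h (-n) (φ⟦-n⟧' ≫ e.hom)
  have h1 : Q.map (φ⟦-n⟧' ≫ e.hom) = 0 := by
    rw [HomotopyCategory.eq_of_homotopy _ _ H, Functor.map_zero]
  have h2 : Q.map (φ⟦-n⟧') = 0 := by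
    rw [Functor.map_comp] at h1
    have : IsIso (Q.map e.hom) := inferInstance
    rw [← cancel_mono (Q.map e.hom), h1, zero_comp]
  have h3 : (Q.map φ)⟦-n⟧' = 0 := by
    have := (Q.commShiftIso (-n)).hom.naturality φ
    dsimp at this
    rw [h2, zero_comp] at this
    rw [← cancel_epi ((Q.commShiftIso (-n)).hom.app K), ← this, comp_zero]
  have h4 : Q.map φ = 0 := by
    apply (CategoryTheory.shiftFunctor (HomotopyCategory A (ComplexShape.up ℤ)) (-n)).map_injective
    rw [h3, Functor.map_zero]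
  exact ⟨HomotopyCategory.homotopyOfEq _ _ (by rw [h4, Functor.map_zero])⟩

set_option backward.defeqAttrib.useBackward true in
set_option backward.isDefEq.respectTransparency false in
lemma HomVanish.eq_δ_of_cocycle {K L : CochainComplex A ℤ} (hKL : HomVanish K L) {n : ℤ}
    (z : Cocycle K L n) (m : ℤ) (hm : m + 1 = n) :
    ∃ (α : Cochain K L m), δ m n α = z.1 := by
  obtain ⟨φ, hφ⟩ := (Cocycle.equivHom ..).surjective (z.rightShift n 0 (zero_add n))
  rw [Cocycle.ext_iff] at hφ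
  dsimp at hφ
  obtain ⟨h⟩ := hKL.homotopy_zero n φ
  obtain ⟨f, hf⟩ := Cochain.equivHomotopy _ _ h
  simp only [Int.reduceNeg, Cochain.ofHom_zero, add_zero] at hf
  refine ⟨n.negOnePow • Cochain.rightUnshift f m (by lia), ?_⟩
  apply (Cochain.rightShiftAddEquiv _ _ _ n 0 (by simp)).injective
  dsimp
  rw [← hφ, hf, δ_units_smul, Cochain.rightShift_units_smul,
    Cochain.δ_rightUnshift _ _ _ _ 0 (by simp)]
  simp [smul_smul]

/-- `φ ≫ inr φ` is null-homotopic. -/
noncomputable def inrHomotopy {X Y : CochainComplex A ℤ} (φ : X ⟶ Y) :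
    Homotopy (φ ≫ mappingCone.inr φ) 0 :=
  (Cochain.equivHomotopy _ _).symm ⟨mappingCone.inl φ, by simp⟩

lemma homVanish_of_rlp (K Z : CochainComplex A ℤ)
    (h : ∀ m : ℤ, HasLiftingProperty (mappingCone.inr (𝟙 (K⟦m⟧))) (0 : Z ⟶ 0)) :
    HomVanish K Z := by
  intro m ψ
  have := h m
  have sq : CommSq ψ (mappingCone.inr (𝟙 (K⟦m⟧))) (0 : Z ⟶ 0) 0 := ⟨by simp⟩
  have H := ((inrHomotopy (𝟙 (K⟦m⟧))).compRight sq.lift).trans (Homotopy.ofEq zero_comp)
  have e : (𝟙 (K⟦m⟧) ≫ mappingCone.inr (𝟙 (K⟦m⟧))) ≫ sq.lift = ψ := by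
    rw [Category.id_comp, sq.fac_left]
  exact ⟨(Homotopy.ofEq e.symm).trans H⟩

/-- If `Z` has injective terms and all maps from the (shifted) cokernel of a monomorphism `j`
to `Z` are null-homotopic, then `Z ⟶ 0` has the right lifting property with respect to `j`. -/
theorem hasLiftingProperty_of_homVanish {X Y Q Z : CochainComplex A ℤ} (j : X ⟶ Y) [Mono j]
    (π : Y ⟶ Q) (w : j ≫ π = 0) (hQ : IsColimit (CokernelCofork.ofπ π w))
    [∀ n, Injective (Z.X n)] (h : HomVanish Q Z) :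
    HasLiftingProperty j (0 : Z ⟶ 0) := by
  constructor
  intro t b sq
  have hmono : ∀ n, Mono (j.f n) := fun n => inferInstance
  have hex : ∀ n, ∃ l : Y.X n ⟶ Z.X n, j.f n ≫ l = t.f n := fun n =>
    ⟨Injective.factorThru (t.f n) (j.f n), Injective.comp_factorThru _ _⟩
  have hsq : ∀ n, (sq.map (HomologicalComplex.eval _ _ n)).LiftStruct := fun n =>
    { l := (hex n).choose
      fac_left := (hex n).choose_spec
      fac_right := (Functor.map_isZero (HomologicalComplex.eval _ _ n)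
        (isZero_zero (CochainComplex A ℤ))).eq_of_tgt _ _ }
  have hK : IsLimit (KernelFork.ofι (𝟙 Z) (show 𝟙 Z ≫ (0 : Z ⟶ 0) = 0 from comp_zero)) :=
    KernelFork.IsLimit.ofId _ rfl
  obtain ⟨α, hα⟩ := h.eq_δ_of_cocycle (Lifting.cocycle₁ sq hsq hQ hK) 0 (by simp)
  exact Lifting.hasLift sq hsq hQ hK α hα

end Groth.Agent.H33.KInj
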