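import Groth.Agent.H33.KInj.Gen
import Mathlib.Algebra.Homology.ShortComplex.HomologicalComplex
import Mathlib.Algebra.Homology.HomologicalComplexAbelian

/-!
# One step of the construction of small acyclic subcomplexes
-/

universe v u

set_option linter.unusedSectionVars false

namespace Groth.Agent.H33.KInj

open CategoryTheory Limits HomologicalComplex

variable {A : Type u} [Category.{v} A] [Abelian A] [HasCoproducts.{v} A] {G : A}

lemma factors_of_epi_comp {X Y Z : A} (S : Subobject Z) (e : X ⟶ Y) [Epi e] (g : Y ⟶ Z)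
    (h : S.Factors (e ≫ g)) : S.Factors g := by
  have : StrongEpi e := strongEpi_of_epi e
  have sq : CommSq (S.factorThru (e ≫ g) h) e S.arrow g := ⟨by simp⟩
  have : S.Factors (sq.lift ≫ S.arrow) := Subobject.factors_comp_arrow _
  rwa [sq.fac_right] at this

theorem exists_pre (hG : IsSeparator G) (M : CochainComplex A ℤ) (k : ℤ)
    (hM : M.ExactAt (k + 1)) (S : Subobject (M.X (k + 1))) (T : Type v)
    (hS : IsGen G T (S : A)) :
    ∃ P : Subobject (M.X k), S.Factors (P.arrow ≫ M.d k (k + 1)) ∧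
      (∀ {W : A} (x : W ⟶ M.X (k + 1)), S.Factors x → x ≫ M.d (k + 1) (k + 1 + 1) = 0 →
        ∃ (W' : A) (π : W' ⟶ W) (_ : Epi π) (y : W' ⟶ M.X k),
          P.Factors y ∧ π ≫ x = y ≫ M.d k (k + 1)) ∧
      IsGen G ((G ⟶ ∐ fun _ : T => G) × (G ⟶ G)) (P : A) := by
  -- the cycles of `S`
  let q : kernel (S.arrow ≫ M.d (k + 1) (k + 1 + 1)) ⟶ (S : A) := kernel.ι _
  have hq : q ≫ S.arrow ≫ M.d (k + 1) (k + 1 + 1) = 0 := kernel.condition _
  have hQ := hS.of_mono hG q
  -- the preimage of the cycles of `S`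
  let r₁ := pullback.fst (M.d k (k + 1)) (q ≫ S.arrow)
  let r₂ := pullback.snd (M.d k (k + 1)) (q ≫ S.arrow)
  have hr : r₁ ≫ M.d k (k + 1) = r₂ ≫ q ≫ S.arrow := pullback.condition
  have hex : (M.sc' k (k + 1) (k + 1 + 1)).Exact :=
    (M.exactAt_iff' k (k + 1) (k + 1 + 1) (by simp) (by simp)).1 hM
  have hr₂ : Epi r₂ := by
    obtain ⟨W', π, hπ, y, hy⟩ := hex.exact_up_to_refinements (q ≫ S.arrow)
      (show (q ≫ S.arrow) ≫ M.d (k + 1) (k + 1 + 1) = 0 by rw [Category.assoc]; exact hq)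
    have hy' : y ≫ M.d k (k + 1) = π ≫ q ≫ S.arrow := hy.symm
    have : pullback.lift y π hy' ≫ r₂ = π := pullback.lift_snd _ _ _
    exact epi_of_epi_fac this
  obtain ⟨R', f, hR', hf⟩ := hQ.exists_lift hG r₂
  refine ⟨imageSubobject (f ≫ r₁), ?_, ?_, hR'.of_epi (factorThruImageSubobject (f ≫ r₁))⟩
  · apply factors_of_epi_comp S (factorThruImageSubobject (f ≫ r₁))
    rw [imageSubobject_arrow_comp_assoc, Category.assoc, hr]
    rw [← Category.assoc, ← Category.assoc]
    exact Subobject.factors_comp_arrow _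
  · intro W x hx hxd
    let x' := S.factorThru x hx
    have hx' : x' ≫ S.arrow = x := S.factorThru_arrow x hx
    let x'' : W ⟶ kernel (S.arrow ≫ M.d (k + 1) (k + 1 + 1)) :=
      kernel.lift _ x' (by rw [reassoc_of% hx', hxd])
    have hx'' : x'' ≫ q = x' := kernel.lift_ι _ _ _
    refine ⟨pullback x'' (f ≫ r₂), pullback.fst _ _, inferInstance,
      pullback.snd _ _ ≫ f ≫ r₁, ?_, ?_⟩
    · have : pullback.snd x'' (f ≫ r₂) ≫ f ≫ r₁ =
          (pullback.snd x'' (f ≫ r₂) ≫ factorThruImageSubobject (f ≫ r₁)) ≫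
            (imageSubobject (f ≫ r₁)).arrow := by
        rw [Category.assoc, imageSubobject_arrow_comp]
      rw [this]
      exact Subobject.factors_comp_arrow _
    · have hc : pullback.fst x'' (f ≫ r₂) ≫ x'' = pullback.snd x'' (f ≫ r₂) ≫ f ≫ r₂ :=
        pullback.condition
      calc pullback.fst x'' (f ≫ r₂) ≫ x
          = pullback.fst x'' (f ≫ r₂) ≫ x'' ≫ q ≫ S.arrow := by rw [reassoc_of% hx'', hx']
        _ = (pullback.snd x'' (f ≫ r₂) ≫ f ≫ r₂) ≫ q ≫ S.arrow := by
          rw [reassoc_of% hc]; simp only [Category.assoc]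
        _ = (pullback.snd x'' (f ≫ r₂) ≫ f ≫ r₁) ≫ M.d k (k + 1) := by
          simp only [Category.assoc, hr]

end Groth.Agent.H33.KInj
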