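import Mathlib.Algebra.Homology.ShortComplex.HomologicalComplex
import Mathlib.Algebra.Homology.HomologicalComplexAbelian
import Mathlib.Algebra.Homology.HomologicalComplexLimits
import Mathlib.CategoryTheory.Abelian.Refinements
import Mathlib.CategoryTheory.Subobject.Lattice

/-!
# Subcomplexes of a cochain complex defined by a family of subobjects
-/

universe v u

namespace Groth.Agent.H33.KInj

open CategoryTheory Limits HomologicalComplex

variable {A : Type u} [Category.{v} A] [Abelian A]

/-- A family of subobjects of the terms of a cochain complex which is stable under the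
differential. -/
structure SubFam (M : CochainComplex A ℤ) where
  /-- the subobjects -/
  N : ∀ k, Subobject (M.X k)
  le : ∀ k, (N (k + 1)).Factors ((N k).arrow ≫ M.d k (k + 1))

namespace SubFam

variable {M : CochainComplex A ℤ} (F : SubFam M)

/-- The differential of the subcomplex. -/
noncomputable def d (k : ℤ) : (F.N k : A) ⟶ (F.N (k + 1) : A) :=
  (F.N (k + 1)).factorThru _ (F.le k)

@[reassoc (attr := simp)]
lemma d_arrow (k : ℤ) : F.d k ≫ (F.N (k + 1)).arrow = (F.N k).arrow ≫ M.d k (k + 1) :=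
  Subobject.factorThru_arrow _ _ _

/-- The subcomplex. -/
noncomputable def cx : CochainComplex A ℤ :=
  CochainComplex.of (fun k => (F.N k : A)) F.d (fun k => by
    rw [← cancel_mono (F.N (k + 1 + 1)).arrow, Category.assoc, d_arrow, d_arrow_assoc,
      M.d_comp_d, comp_zero, zero_comp])

@[simp]
lemma cx_d (k : ℤ) : F.cx.d k (k + 1) = F.d k := by
  show CochainComplex.of.d _ F.d k (k + 1) = F.d k
  exact CochainComplex.of_d _ _ _

/-- The inclusion of the subcomplex. -/
noncomputable def ι : F.cx ⟶ M where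
  f k := (F.N k).arrow
  comm' i j hij := by
    obtain rfl : i + 1 = j := hij
    rw [cx_d]
    exact (F.d_arrow i).symm

@[simp]
lemma ι_f (k : ℤ) : F.ι.f k = (F.N k).arrow := rfl

instance : Mono F.ι :=
  HomologicalComplex.mono_of_mono_f _ (fun k => inferInstanceAs (Mono (F.N k).arrow))

/-- Exactness criterion for the subcomplex. -/
lemma exactAt (k : ℤ)
    (h : ∀ {W : A} (x : W ⟶ M.X (k + 1)), (F.N (k + 1)).Factors x →
      x ≫ M.d (k + 1) (k + 1 + 1) = 0 →
      ∃ (W' : A) (π : W' ⟶ W) (_ : Epi π) (y : W' ⟶ M.X k),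
        (F.N k).Factors y ∧ π ≫ x = y ≫ M.d k (k + 1)) :
    F.cx.ExactAt (k + 1) := by
  rw [F.cx.exactAt_iff' k (k + 1) (k + 1 + 1) (by simp) (by simp),
    ShortComplex.exact_iff_exact_up_to_refinements]
  intro W (x : W ⟶ (F.N (k + 1) : A)) (hx : x ≫ F.cx.d (k + 1) (k + 1 + 1) = 0)
  have hx' : x ≫ F.d (k + 1) = 0 := by rwa [cx_d] at hx
  obtain ⟨W', π, hπ, y, hy, hy'⟩ := h (x ≫ (F.N (k + 1)).arrow)
    (Subobject.factors_comp_arrow _) (by
      rw [Category.assoc, ← d_arrow, reassoc_of% hx', zero_comp])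
  refine ⟨W', π, hπ, (F.N k).factorThru y hy, ?_⟩
  have e : π ≫ x = (F.N k).factorThru y hy ≫ F.d k := by
    rw [← cancel_mono (F.N (k + 1)).arrow, Category.assoc, Category.assoc, d_arrow,
      Subobject.factorThru_arrow_assoc, hy']
  show π ≫ x = (F.N k).factorThru y hy ≫ F.cx.d k (k + 1)
  rw [cx_d]
  exact e

end SubFam

end Groth.Agent.H33.KInj
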