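import Groth.Agent.H33.KInj.Pre
import Groth.Agent.H33.KInj.SubFam

/-!
# Small acyclic subcomplexes of acyclic complexes
-/

universe v u

set_option linter.unusedSectionVars false

namespace Groth.Agent.H33.KInj

open CategoryTheory Limits HomologicalComplex

variable {A : Type u} [Category.{v} A] [Abelian A] [HasCoproducts.{v} A]

/-- The rank types. -/
noncomputable def rankT (G : A) : ℕ → Type v
  | 0 => PUnit
  | j + 1 => (G ⟶ ∐ fun _ : rankT G j => G) × (G ⟶ G)

/-- Small objects: quotients of coproducts of copies of `G` indexed by a rank type. -/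
def SmallObj (G X : A) : Prop := ∃ j, IsGen G (rankT G j) X

variable {G : A}

lemma SmallObj.of_epi {X Y : A} (h : SmallObj G X) (p : X ⟶ Y) [Epi p] : SmallObj G Y := by
  obtain ⟨j, hj⟩ := h
  exact ⟨j, hj.of_epi p⟩

lemma smallObj_of_isZero {X : A} (hX : IsZero X) : SmallObj G X :=
  ⟨0, isGen_of_isZero _ hX⟩

lemma smallObj_of_epi_from {X : A} (p : G ⟶ X) [Epi p] : SmallObj G X :=
  ⟨0, by
    have : Inhabited (rankT G 0) := ⟨PUnit.unit⟩
    exact isGen_of_epi_from _ p⟩

/-- Small subobjects of the terms of a complex. -/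
def SSub (G : A) (M : CochainComplex A ℤ) (k : ℤ) : Type _ :=
  {S : Subobject (M.X k) // SmallObj G (S : A)}

variable (M : CochainComplex A ℤ)

/-- The zero small subobject. -/
noncomputable def SSub.bot (k : ℤ) : SSub G M k :=
  ⟨⊥, smallObj_of_isZero (by
    rw [IsZero.iff_id_eq_zero, ← cancel_mono (⊥ : Subobject (M.X k)).arrow]
    simp [Subobject.bot_arrow])⟩

/-- The small subobject given by the image of a morphism from `G`. -/
noncomputable def SSub.image {k : ℤ} (g : G ⟶ M.X k) : SSub G M k :=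
  ⟨imageSubobject g, smallObj_of_epi_from (factorThruImageSubobject g)⟩

theorem exists_pre' (hG : IsSeparator G) (k : ℤ) (hM : M.ExactAt (k + 1))
    (S : SSub G M (k + 1)) :
    ∃ P : SSub G M k, S.1.Factors (P.1.arrow ≫ M.d k (k + 1)) ∧
      (∀ {W : A} (x : W ⟶ M.X (k + 1)), S.1.Factors x → x ≫ M.d (k + 1) (k + 1 + 1) = 0 →
        ∃ (W' : A) (π : W' ⟶ W) (_ : Epi π) (y : W' ⟶ M.X k),
          P.1.Factors y ∧ π ≫ x = y ≫ M.d k (k + 1)) := by
  obtain ⟨j, hj⟩ := S.2
  obtain ⟨P, h1, h2, h3⟩ := exists_pre hG M k hM S.1 _ hj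
  exact ⟨⟨P, ⟨j + 1, h3⟩⟩, h1, h2⟩

variable {M} (hG : IsSeparator G) (hM : M.Acyclic)

/-- A choice of small subobject in degree `k` surjecting onto the cycles of `S`. -/
noncomputable def pre (k : ℤ) (S : SSub G M (k + 1)) : SSub G M k :=
  (exists_pre' M hG k (hM (k + 1)) S).choose

lemma pre_le (k : ℤ) (S : SSub G M (k + 1)) :
    S.1.Factors ((pre hG hM k S).1.arrow ≫ M.d k (k + 1)) :=
  (exists_pre' M hG k (hM (k + 1)) S).choose_spec.1

lemma pre_exact (k : ℤ) (S : SSub G M (k + 1)) {W : A} (x : W ⟶ M.X (k + 1))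
    (hx : S.1.Factors x) (hx' : x ≫ M.d (k + 1) (k + 1 + 1) = 0) :
    ∃ (W' : A) (π : W' ⟶ W) (_ : Epi π) (y : W' ⟶ M.X k),
      (pre hG hM k S).1.Factors y ∧ π ≫ x = y ≫ M.d k (k + 1) :=
  (exists_pre' M hG k (hM (k + 1)) S).choose_spec.2 x hx hx'

end Groth.Agent.H33.KInj
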