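import Groth.Agent.H33.KInj.SmallSub

/-!
# Small acyclic subcomplexes of acyclic complexes: the construction
-/

universe v u

set_option linter.unusedSectionVars false

namespace Groth.Agent.H33.KInj

open CategoryTheory Limits HomologicalComplex

variable {A : Type u} [Category.{v} A] [Abelian A] [HasCoproducts.{v} A] {G : A}
  {M : CochainComplex A ℤ} (hG : IsSeparator G) (hM : M.Acyclic) (n : ℤ) (g : G ⟶ M.X n)

/-- The successive approximations of the small acyclic subcomplex generated by `g`. -/
noncomputable def Nseq : ℕ → ∀ k, SSub G M k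
  | 0 => Function.update (Function.update (fun k => SSub.bot M k) n (SSub.image M g)) (n + 1)
      (SSub.image M (g ≫ M.d n (n + 1)))
  | j + 1 => Function.update (Nseq j) (n - j - 1)
      (pre hG hM (n - j - 1) (Nseq j (n - j - 1 + 1)))

/-- The small acyclic subcomplex generated by `g`, as a family of small subobjects. -/
noncomputable def Ninf (k : ℤ) : SSub G M k := Nseq hG hM n g (n - k).toNat k

lemma Ninf_of_gt (k : ℤ) (h : n + 1 < k) : (Ninf hG hM n g k).1 = ⊥ := by
  have h0 : (n - k).toNat = 0 := by omega
  unfold Ninf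
  rw [h0]
  show (Function.update (Function.update (fun k => SSub.bot M k) n (SSub.image M g)) (n + 1)
      (SSub.image M (g ≫ M.d n (n + 1))) k).1 = ⊥
  rw [Function.update_of_ne (by omega), Function.update_of_ne (by omega)]
  rfl

lemma Ninf_succ : (Ninf hG hM n g (n + 1)).1 = imageSubobject (g ≫ M.d n (n + 1)) := by
  have h0 : (n - (n + 1)).toNat = 0 := by omega
  unfold Ninf
  rw [h0]
  show (Function.update (Function.update (fun k => SSub.bot M k) n (SSub.image M g)) (n + 1)
      (SSub.image M (g ≫ M.d n (n + 1))) (n + 1)).1 = _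
  rw [Function.update_self]
  rfl

lemma Ninf_self : (Ninf hG hM n g n).1 = imageSubobject g := by
  have h0 : (n - n).toNat = 0 := by omega
  unfold Ninf
  rw [h0]
  show (Function.update (Function.update (fun k => SSub.bot M k) n (SSub.image M g)) (n + 1)
      (SSub.image M (g ≫ M.d n (n + 1))) n).1 = _
  rw [Function.update_of_ne (by omega), Function.update_self]
  rfl

lemma Ninf_of_lt (k : ℤ) (h : k < n) :
    Ninf hG hM n g k = pre hG hM k (Ninf hG hM n g (k + 1)) := by
  obtain ⟨j, rfl⟩ : ∃ j : ℕ, k = n - j - 1 := ⟨(n - k - 1).toNat, by omega⟩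
  have h1 : (n - (n - (j : ℤ) - 1)).toNat = j + 1 := by omega
  have h2 : (n - (n - (j : ℤ) - 1 + 1)).toNat = j := by omega
  unfold Ninf
  rw [h1, h2]
  show Function.update (Nseq hG hM n g j) (n - j - 1)
      (pre hG hM (n - j - 1) (Nseq hG hM n g j (n - j - 1 + 1))) (n - j - 1) = _
  rw [Function.update_self]

end Groth.Agent.H33.KInj

namespace Groth.Agent.H33.KInj

open CategoryTheory Limits HomologicalComplex

variable {A : Type u} [Category.{v} A] [Abelian A] [HasCoproducts.{v} A] {G : A}
  {M : CochainComplex A ℤ} (hG : IsSeparator G) (hM : M.Acyclic) (n : ℤ) (g : G ⟶ M.X n)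

lemma Ninf_le (k : ℤ) :
    (Ninf hG hM n g (k + 1)).1.Factors ((Ninf hG hM n g k).1.arrow ≫ M.d k (k + 1)) := by
  by_cases h1 : k < n
  · rw [Ninf_of_lt hG hM n g k h1]
    exact pre_le hG hM k _
  · by_cases h2 : k = n
    · subst h2
      rw [Ninf_succ, Ninf_self]
      apply factors_of_epi_comp _ (factorThruImageSubobject g)
      have e : factorThruImageSubobject g ≫ (imageSubobject g).arrow ≫ M.d k (k + 1) =
          factorThruImageSubobject (g ≫ M.d k (k + 1)) ≫
            (imageSubobject (g ≫ M.d k (k + 1))).arrow := by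
        rw [imageSubobject_arrow_comp, ← Category.assoc, imageSubobject_arrow_comp]
      rw [e]
      exact Subobject.factors_comp_arrow _
    · by_cases h3 : k = n + 1
      · subst h3
        rw [Ninf_of_gt hG hM n g (n + 1 + 1) (by omega), Subobject.bot_factors_iff_zero,
          Ninf_succ, ← cancel_epi (factorThruImageSubobject (g ≫ M.d n (n + 1))),
          imageSubobject_arrow_comp_assoc, Category.assoc, M.d_comp_d, comp_zero, comp_zero]
      · have : (Ninf hG hM n g k).1.arrow = 0 := by
          rw [Ninf_of_gt hG hM n g k (by omega), Subobject.bot_arrow]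
        rw [this, zero_comp]
        exact Subobject.factors_zero

lemma Ninf_exact (k : ℤ) {W : A} (x : W ⟶ M.X (k + 1))
    (hx : (Ninf hG hM n g (k + 1)).1.Factors x) (hx' : x ≫ M.d (k + 1) (k + 1 + 1) = 0) :
    ∃ (W' : A) (π : W' ⟶ W) (_ : Epi π) (y : W' ⟶ M.X k),
      (Ninf hG hM n g k).1.Factors y ∧ π ≫ x = y ≫ M.d k (k + 1) := by
  by_cases h1 : k < n
  · rw [Ninf_of_lt hG hM n g k h1]
    exact pre_exact hG hM k _ x hx hx'
  · by_cases h2 : k = n
    · subst h2
      rw [Ninf_succ] at hx
      rw [Ninf_self]
      let x' := (imageSubobject (g ≫ M.d k (k + 1))).factorThru x hx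
      have hx'' : x' ≫ (imageSubobject (g ≫ M.d k (k + 1))).arrow = x :=
        Subobject.factorThru_arrow _ _ _
      let e := factorThruImageSubobject (g ≫ M.d k (k + 1))
      refine ⟨pullback x' e, pullback.fst _ _, inferInstance, pullback.snd _ _ ≫ g, ?_, ?_⟩
      · have e' : pullback.snd x' e ≫ g =
            (pullback.snd x' e ≫ factorThruImageSubobject g) ≫ (imageSubobject g).arrow := by
          rw [Category.assoc, imageSubobject_arrow_comp]
        rw [e']
        exact Subobject.factors_comp_arrow _
      · rw [← hx'', ← Category.assoc, pullback.condition, Category.assoc,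
          imageSubobject_arrow_comp, Category.assoc]
    · have hbot : (Ninf hG hM n g (k + 1)).1 = ⊥ := Ninf_of_gt hG hM n g (k + 1) (by omega)
      rw [hbot, Subobject.bot_factors_iff_zero] at hx
      subst hx
      exact ⟨W, 𝟙 W, inferInstance, 0, Subobject.factors_zero, by simp⟩

/-- The small acyclic subcomplex generated by `g`, as a stable family of subobjects. -/
noncomputable def smallFam : SubFam M where
  N k := (Ninf hG hM n g k).1
  le k := Ninf_le hG hM n g k

lemma smallFam_acyclic : (smallFam hG hM n g).cx.Acyclic := by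
  intro j
  obtain ⟨k, rfl⟩ : ∃ k, j = k + 1 := ⟨j - 1, by omega⟩
  exact (smallFam hG hM n g).exactAt k (fun x hx hx' => Ninf_exact hG hM n g k x hx hx')

lemma smallFam_small (k : ℤ) : SmallObj G ((smallFam hG hM n g).cx.X k) :=
  (Ninf hG hM n g k).2

lemma smallFam_not_isZero (hg : g ≠ 0) : ¬ IsZero (smallFam hG hM n g).cx := by
  intro h
  apply hg
  have h1 : IsZero ((smallFam hG hM n g).cx.X n) :=
    Functor.map_isZero (HomologicalComplex.eval _ _ n) h
  have h2 : (imageSubobject g).arrow = 0 := by
    have : ((smallFam hG hM n g).N n).arrow = 0 := h1.eq_of_src _ _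
    have e : (smallFam hG hM n g).N n = imageSubobject g := Ninf_self hG hM n g
    rwa [e] at this
  rw [← imageSubobject_arrow_comp g, h2, comp_zero]

end Groth.Agent.H33.KInj
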