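import Groth.Agent.H33.KInj.TrivCof
import Mathlib.CategoryTheory.Limits.FunctorCategory.EpiMono

/-!
# Stability properties of trivial cofibrations of cochain complexes
-/

universe w v u

namespace Groth.Agent.H33.KInj

open CategoryTheory Limits MorphismProperty HomologicalComplex

variable {A : Type u} [Category.{v} A] [Abelian A]

instance : (trivCof A).IsStableUnderCobaseChange where
  of_isPushout {X X' Y Y' f g f' g'} sq hf := by
    rw [trivCof_iff] at hf ⊢
    obtain ⟨hf₁, hf₂⟩ := hf
    have hm : Mono f' :=
      (inferInstance : (monomorphisms (CochainComplex A ℤ)).IsStableUnderCobaseChange).of_isPushout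
        sq hf₁
    refine ⟨hm, ?_⟩
    let π' : Y' ⟶ cokernel f := sq.desc 0 (cokernel.π f) (by simp)
    have w' : f' ≫ π' = 0 := by simp [π']
    have hπ' : g' ≫ π' = cokernel.π f := by simp [π']
    have hQ : IsColimit (CokernelCofork.ofπ π' w') :=
      CokernelCofork.IsColimit.ofπ π' w'
        (fun {T} t ht => cokernel.desc f (g' ≫ t) (by
          rw [← sq.w_assoc, ht, comp_zero]))
        (fun {T} t ht => by
          apply sq.hom_ext
          · rw [reassoc_of% w', zero_comp, ht]
          · rw [reassoc_of% hπ', cokernel.π_desc])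
        (fun {T} t ht m hm => by
          apply coequalizer.hom_ext
          rw [cokernel.π_desc]
          show cokernel.π f ≫ m = _
          rw [← hπ', Category.assoc, hm])
    exact quasiIso_of_mono_of_isColimit f' π' w' hQ
      (acyclic_of_mono_of_isColimit f _ (cokernel.condition f) (cokernelIsCokernel f) hf₂)

section

variable (J : Type*) [Category J] [HasColimitsOfShape J A] [HasExactColimitsOfShape J A]

lemma trivCof_isStableUnderColimitsOfShape : (trivCof A).IsStableUnderColimitsOfShape J where
  condition X₁ X₂ c₁ c₂ hc₁ hc₂ f hf φ hφ := by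
    have hf₁ : ∀ j, Mono (f.app j) := fun j => ((trivCof_iff _).1 (hf j)).1
    have hf₂ : ∀ j, QuasiIso (f.app j) := fun j => ((trivCof_iff _).1 (hf j)).2
    have hfm : Mono f := NatTrans.mono_of_mono_app f
    rw [trivCof_iff]
    have hm : Mono φ := colim.map_mono' f hc₁ hc₂ φ hφ
    refine ⟨hm, ?_⟩
    -- the cokernel
    let S : ShortComplex (J ⥤ CochainComplex A ℤ) :=
      ShortComplex.mk f (cokernel.π f) (cokernel.condition f)
    have hS : S.ShortExact := { exact := ShortComplex.exact_cokernel f }
    let c₃ : Cocone S.X₃ := colimit.cocone _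
    let hc₃ : IsColimit c₃ := colimit.isColimit _
    let g : c₂.pt ⟶ c₃.pt := hc₂.desc (Cocone.mk c₃.pt (S.g ≫ c₃.ι))
    have hg : ∀ j, c₂.ι.app j ≫ g = S.g.app j ≫ c₃.ι.app j := fun j => hc₂.fac _ j
    have hex := colim.exact_mapShortComplex hS.exact hc₁ hc₂ hc₃ φ g hφ hg
    have : ∀ j, Epi (S.g.app j) := fun j => by
      have : Epi S.g := hS.epi_g
      exact (NatTrans.epi_iff_epi_app (f := S.g)).1 inferInstance j
    have hepi : Epi g := colim.map_epi' S.g c₂ hc₃ g hg
    have hSE : (colim.mapShortComplex S hc₁ c₂ c₃ φ g hφ hg).ShortExact :=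
      { exact := hex
        mono_f := hm
        epi_g := hepi }
    refine quasiIso_f_of_acyclic hSE ?_
    refine acyclic_of_isColimit S.X₃ c₃ hc₃ (fun j => ?_)
    have hSj : (S.map ((evaluation J (CochainComplex A ℤ)).obj j)).ShortExact :=
      hS.map_of_exact _
    exact hSj.acyclic_X₃ (hf₂ j)

end

instance trivCof_isStableUnderCoproducts [HasCoproducts.{w} A] [AB4OfSize.{w} A] :
    IsStableUnderCoproducts.{w} (trivCof A) where
  isStableUnderCoproductsOfShape J := trivCof_isStableUnderColimitsOfShape (Discrete J)

instance trivCof_isStableUnderFilteredColimits [HasFilteredColimitsOfSize.{w, w} A]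
    [AB5OfSize.{w, w} A] :
    IsStableUnderFilteredColimits.{w, w} (trivCof A) where
  isStableUnderColimitsOfShape J _ _ := trivCof_isStableUnderColimitsOfShape J

instance trivCof_isStableUnderTransfiniteComposition [HasFilteredColimitsOfSize.{w, w} A]
    [AB5OfSize.{w, w} A] :
    IsStableUnderTransfiniteComposition.{w} (trivCof A) := inferInstance

/-- If `I` is a class of trivial cofibrations permitting the small object argument, then
every morphism in `I.rlp.llp` is a trivial cofibration. -/
theorem llp_rlp_le_trivCof [IsGrothendieckAbelian.{w} A]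
    (I : MorphismProperty (CochainComplex A ℤ)) [HasSmallObjectArgument.{w} I]
    (hI : I ≤ trivCof A) : I.rlp.llp ≤ trivCof A := by
  rw [llp_rlp_of_hasSmallObjectArgument]
  trans (transfiniteCompositions.{w} (coproducts.{w} (trivCof A)).pushouts).retracts
  · apply retracts_monotone
    apply transfiniteCompositions_monotone
    apply pushouts_monotone
    apply coproducts_monotone
    exact hI
  · simp

end Groth.Agent.H33.KInj
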