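import Groth.Agent.H33.KInj.Family
import Groth.Agent.H33.KInj.TrivCofStable

/-!
# Trivial cofibrations are built from small steps
-/

universe v u

set_option linter.unusedSectionVars false

namespace Groth.Agent.H33.KInj

open CategoryTheory Limits HomologicalComplex MorphismProperty

variable {A : Type u} [Category.{v} A] [Abelian A] [IsGrothendieckAbelian.{v} A]

/-- The elementary steps: isomorphisms, and monomorphisms whose cokernel is isomorphic to an
acyclic member of the family `KObj`. -/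
def stepProp (G : A) : MorphismProperty (CochainComplex A ℤ) := fun _ _ j =>
  IsIso j ∨ (Mono j ∧ ∃ i : KIdx G, (KObj i).Acyclic ∧ Nonempty (cokernel j ≅ KObj i))

instance (G : A) : (stepProp G).RespectsIso := by
  apply MorphismProperty.RespectsIso.of_respects_arrow_iso
  intro f g e hf
  obtain hf | ⟨hf, i, hi, ⟨ei⟩⟩ := hf
  · left
    exact ((MorphismProperty.isomorphisms _).arrow_mk_iso_iff e).1 hf
  · right
    have hg : Mono g.hom := ((MorphismProperty.monomorphisms _).arrow_mk_iso_iff e).1 hf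
    refine ⟨hg, i, hi, ⟨?_ ≪≫ ei⟩⟩
    exact cokernel.mapIso g.hom f.hom (Arrow.leftFunc.mapIso e.symm)
      (Arrow.rightFunc.mapIso e.symm) (by dsimp; exact (Arrow.w e.inv).symm)

lemma stepProp_le_trivCof (G : A) : stepProp G ≤ trivCof A := by
  intro X Y j hj
  rw [trivCof_iff]
  obtain hj | ⟨hj, i, hi, ⟨ei⟩⟩ := hj
  · exact ⟨inferInstance, inferInstance⟩
  · exact ⟨hj, (quasiIso_iff_acyclic_cokernel j).2 (acyclic_of_iso ei.symm hi)⟩

variable {G : A} (hG : IsSeparator G)

include hG in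
lemma exists_step {X Y : CochainComplex A ℤ} (a : X ⟶ Y) [Mono a] (ha : QuasiIso a)
    (hna : ¬ IsIso a) :
    ∃ (X' : CochainComplex A ℤ) (a₁ : X ⟶ X') (a₂ : X' ⟶ Y),
      stepProp G a₁ ∧ ¬ IsIso a₁ ∧ Mono a₂ ∧ a₁ ≫ a₂ = a := by
  have hC : (cokernel a).Acyclic := (quasiIso_iff_acyclic_cokernel a).1 ha
  have hC0 : ¬ IsZero (cokernel a) := by
    intro h
    have : Epi a := Abelian.epi_of_cokernel_π_eq_zero a (h.eq_of_tgt _ _)
    exact hna (isIso_of_mono_of_epi a)
  obtain ⟨i, f, hf, hi, hi0⟩ := exists_small_acyclic_sub hG (cokernel a) hC hC0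
  let π := cokernel.π a
  let a₂ := pullback.fst π f
  let s := pullback.snd π f
  let a₁ : X ⟶ pullback π f := pullback.lift a 0 (by simp [π])
  have h12 : a₁ ≫ a₂ = a := pullback.lift_fst _ _ _
  have h1s : a₁ ≫ s = 0 := pullback.lift_snd _ _ _
  have hm1 : Mono a₁ := mono_of_mono_fac h12
  have hs : Epi s := inferInstance
  -- `a` is the kernel of `π`
  have hker := Abelian.monoIsKernelOfCokernel _ (cokernelIsCokernel a)
  have hz : ∀ {T : CochainComplex A ℤ} (t : T ⟶ pullback π f), t ≫ s = 0 →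
      (t ≫ a₂) ≫ π = 0 := fun t ht => by
    rw [Category.assoc, pullback.condition, reassoc_of% ht, zero_comp]
  have hfac : ∀ {T : CochainComplex A ℤ} (t : T ⟶ pullback π f) (ht : t ≫ s = 0),
      (KernelFork.IsLimit.lift' hker (t ≫ a₂) (hz t ht)).1 ≫ a₁ = t := fun t ht => by
    have h1 : (KernelFork.IsLimit.lift' hker (t ≫ a₂) (hz t ht)).1 ≫ a = t ≫ a₂ :=
      (KernelFork.IsLimit.lift' hker (t ≫ a₂) (hz t ht)).2
    apply pullback.hom_ext
    · rw [Category.assoc, h12, h1]
    · rw [Category.assoc, h1s, comp_zero, ht]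
  have hl : IsLimit (KernelFork.ofι a₁ h1s) :=
    KernelFork.IsLimit.ofι a₁ h1s
      (fun {T} t ht => (KernelFork.IsLimit.lift' hker (t ≫ a₂) (hz t ht)).1)
      (fun {T} t ht => hfac t ht)
      (fun {T} t ht m hm => by
        rw [← cancel_mono a₁, hm, hfac t ht])
  have hc := Abelian.epiIsCokernelOfKernel _ hl
  refine ⟨pullback π f, a₁, a₂, Or.inr ⟨hm1, i, hi, ⟨?_⟩⟩, ?_, inferInstance, h12⟩
  · exact IsColimit.coconePointUniqueUpToIso (cokernelIsCokernel a₁) hc
  · intro hiso
    apply hi0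
    have : s = 0 := by
      rw [← cancel_epi a₁, h1s, comp_zero]
    rw [IsZero.iff_id_eq_zero, ← cancel_epi s, this, zero_comp, zero_comp]

include hG in
lemma exists_larger_subobject {Y : CochainComplex A ℤ} (S : Subobject Y) (hS : S ≠ ⊤)
    (hq : QuasiIso S.arrow) :
    ∃ (S' : Subobject Y) (h : S < S'), QuasiIso S'.arrow ∧
      stepProp G (Subobject.ofLE S S' h.le) := by
  induction S using Subobject.ind with | _ f
  have hqf : QuasiIso f := by
    have := hq
    rw [← Subobject.underlyingIso_arrow f]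
    infer_instance
  obtain ⟨X', a₁, a₂, h1, h1', h2, fac⟩ := exists_step hG f hqf
    (by simpa only [Subobject.isIso_iff_mk_eq_top] using hS)
  have hq1 : QuasiIso a₁ := ((trivCof_iff _).1 (stepProp_le_trivCof G _ h1)).2
  have hq2 : QuasiIso a₂ := by
    have : QuasiIso (a₁ ≫ a₂) := by rw [fac]; exact hqf
    exact quasiIso_of_comp_left a₁ a₂
  refine ⟨Subobject.mk a₂, Subobject.mk_lt_mk_of_comm a₁ fac h1', ?_,
    (MorphismProperty.arrow_mk_iso_iff _ ?_).2 h1⟩
  · rw [← Subobject.underlyingIso_hom_comp_eq_mk]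
    infer_instance
  · refine Arrow.isoMk (Subobject.underlyingIso f) (Subobject.underlyingIso a₂) ?_
    dsimp
    simp only [← cancel_mono a₂, Category.assoc, fac,
      Subobject.underlyingIso_hom_comp_eq_mk, Subobject.ofLE_arrow]

end Groth.Agent.H33.KInj
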