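import Mathlib.Algebra.Homology.GrothendieckAbelian
import Mathlib.Algebra.Homology.HomologySequenceLemmas
import Mathlib.Algebra.Homology.HomologicalComplexLimits
import Mathlib.Algebra.Homology.QuasiIso
import Mathlib.CategoryTheory.Abelian.GrothendieckCategory.Monomorphisms
import Mathlib.CategoryTheory.Abelian.CommSq
import Mathlib.CategoryTheory.SmallObject.Basic

/-!
# Trivial cofibrations of cochain complexes: monomorphisms which are quasi-isomorphisms
-/

universe w v u

namespace Groth.Agent.H33.KInj

open CategoryTheory Limits MorphismProperty HomologicalComplex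

variable {A : Type u} [Category.{v} A] [Abelian A]

/-- In a short exact sequence of complexes with acyclic third term, the first map is a
quasi-isomorphism. -/
lemma quasiIso_f_of_acyclic {S : ShortComplex (CochainComplex A ℤ)} (hS : S.ShortExact)
    (h : S.X₃.Acyclic) : QuasiIso S.f := by
  rw [quasiIso_iff]
  intro i
  rw [quasiIsoAt_iff_isIso_homologyMap]
  have hz : ∀ j, IsZero (S.X₃.homology j) := fun j => (h j).isZero_homology
  have : Mono (HomologicalComplex.homologyMap S.f i) :=
    (hS.homology_exact₁ (i - 1) i (by simp)).mono_g ((hz _).eq_of_src _ _)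
  have : Epi (HomologicalComplex.homologyMap S.f i) :=
    (hS.homology_exact₂ i).epi_f ((hz _).eq_of_tgt _ _)
  exact isIso_of_mono_of_epi _

/-- A monomorphism with acyclic cokernel is a quasi-isomorphism. -/
lemma quasiIso_of_mono_of_isColimit {X Y Q : CochainComplex A ℤ} (f : X ⟶ Y) [Mono f]
    (π : Y ⟶ Q) (w : f ≫ π = 0) (hQ : IsColimit (CokernelCofork.ofπ π w)) (h : Q.Acyclic) :
    QuasiIso f := by
  have : Epi π := Cofork.IsColimit.epi hQ
  exact quasiIso_f_of_acyclic (S := ShortComplex.mk f π w)
    { exact := ShortComplex.exact_of_g_is_cokernel _ hQ } h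

lemma acyclic_of_mono_of_isColimit {X Y Q : CochainComplex A ℤ} (f : X ⟶ Y) [Mono f]
    (π : Y ⟶ Q) (w : f ≫ π = 0) (hQ : IsColimit (CokernelCofork.ofπ π w)) (h : QuasiIso f) :
    Q.Acyclic := by
  have : Epi π := Cofork.IsColimit.epi hQ
  exact ShortComplex.ShortExact.acyclic_X₃ (S := ShortComplex.mk f π w)
    { exact := ShortComplex.exact_of_g_is_cokernel _ hQ } h

lemma quasiIso_iff_acyclic_cokernel {X Y : CochainComplex A ℤ} (f : X ⟶ Y) [Mono f] :
    QuasiIso f ↔ (cokernel f).Acyclic :=
  ⟨acyclic_of_mono_of_isColimit f _ (cokernel.condition f) (cokernelIsCokernel f),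
    quasiIso_of_mono_of_isColimit f _ (cokernel.condition f) (cokernelIsCokernel f)⟩

section Colimit

variable {J : Type*} [Category J] [HasColimitsOfShape J A] [HasExactColimitsOfShape J A]

lemma exact_of_eval (S : ShortComplex (J ⥤ A))
    (h : ∀ j, (S.map ((evaluation J A).obj j)).Exact) : S.Exact := by
  rw [ShortComplex.exact_iff_isZero_homology]
  rw [IsZero.iff_id_eq_zero]
  ext j
  have hj := (h j)
  rw [ShortComplex.exact_iff_isZero_homology] at hj
  have e := S.mapHomologyIso ((evaluation J A).obj j)
  exact (IsZero.of_iso hj e.symm).eq_of_src _ _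

/-- If colimits of shape `J` are exact, a colimit of shape `J` of complexes which are exact in
degree `i` is exact in degree `i`. -/
theorem exactAt_of_isColimit (D : J ⥤ CochainComplex A ℤ) (cc : Cocone D) (hcc : IsColimit cc)
    (i : ℤ) (h : ∀ j, (D.obj j).ExactAt i) : cc.pt.ExactAt i := by
  let c := ComplexShape.up ℤ
  let S : ShortComplex (J ⥤ A) :=
    ShortComplex.mk (Functor.whiskerLeft D (dNatTrans A c (c.prev i) i))
      (Functor.whiskerLeft D (dNatTrans A c i (c.next i))) (by
        ext j
        exact (D.obj j).d_comp_d _ _ _)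
  have hS : S.Exact := exact_of_eval S (fun j => h j)
  exact colim.exact_mapShortComplex hS (isColimitOfPreserves (eval A c (c.prev i)) hcc)
    (isColimitOfPreserves (eval A c i) hcc) (isColimitOfPreserves (eval A c (c.next i)) hcc)
    (cc.pt.d (c.prev i) i) (cc.pt.d i (c.next i))
    (fun j => ((cc.ι.app j).comm (c.prev i) i))
    (fun j => ((cc.ι.app j).comm i (c.next i)))

theorem acyclic_of_isColimit (D : J ⥤ CochainComplex A ℤ) (cc : Cocone D) (hcc : IsColimit cc)
    (h : ∀ j, (D.obj j).Acyclic) : cc.pt.Acyclic :=
  fun i => exactAt_of_isColimit D cc hcc i (fun j => h j i)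

end Colimit

variable (A) in
/-- Trivial cofibrations: the monomorphisms of cochain complexes which are quasi-isomorphisms. -/
def trivCof : MorphismProperty (CochainComplex A ℤ) :=
  monomorphisms (CochainComplex A ℤ) ⊓ HomologicalComplex.quasiIso A (ComplexShape.up ℤ)

lemma trivCof_iff {X Y : CochainComplex A ℤ} (f : X ⟶ Y) :
    trivCof A f ↔ Mono f ∧ QuasiIso f := by
  simp only [trivCof, inf_iff, monomorphisms.iff, HomologicalComplex.mem_quasiIso_iff]

instance : (trivCof A).RespectsIso := by unfold trivCof; infer_instance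
instance : (trivCof A).IsMultiplicative := by unfold trivCof; infer_instance
instance : (trivCof A).IsStableUnderRetracts := by unfold trivCof; infer_instance

end Groth.Agent.H33.KInj
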